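import Groth.Agent.Lib.SteinSurj5.Free
import Groth.Agent.Lib.CBC10.Crit2
import Groth.Agent.Lib.CBC10.Fib
import Groth.Agent.Lib.CBC10.BaseCx
import Groth.Agent.Lib.CBC10.PullModel

/-!
# Cohomological flatness in degree zero over a local base
-/

set_option autoImplicit false
set_option linter.style.haveILetI false
set_option maxHeartbeats 1000000
universe u

open CategoryTheory CategoryTheory.Limits AlgebraicGeometry TopologicalSpace Opposite Groth.Agent.ModLimH13

noncomputable section

namespace Groth.Agent.SteinSurj5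

open CohFound in
attribute [-instance] abelianAb hasExtAb isGrothendieckAbelianAb enoughInjectivesAb
attribute [local instance] CBC10.secA

open CBC10

/-- Exactness of `M ↦ H⁰(X, f^*M~)` when the functions on the closed fibre are étale. -/
theorem preserves_TX_zero (A : Type u) [CommRing A] [IsNoetherianRing A] [IsLocalRing A] (X : Scheme.{u})
    [X.Over (Spec (CommRingCat.of A))] [IsProper (X ↘ Spec (CommRingCat.of A))] [Flat (X ↘ Spec (CommRingCat.of A))]
    (y : ↥(Spec (CommRingCat.of A))) (hy : y.asIdeal = IsLocalRing.maximalIdeal A)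
    (het : Algebra.Etale ((Spec (CommRingCat.of A)).residueField y)
      Γ((X ↘ Spec (CommRingCat.of A)).fiber y, ⊤)) :
    (TX A (Coh.structureModule X) 0).PreservesMonomorphisms ∧
      (TX A (Coh.structureModule X) 0).PreservesEpimorphisms := by
  let f := X ↘ Spec (CommRingCat.of A)
  let O := Coh.structureModule X
  have hO : PicF.IsInvertible O := fun x => ⟨⊤, trivial, ⟨Scheme.Modules.restrictUnitIso _⟩⟩
  have hlf := M2.isFinLocFree_of_isInvertible hO
  have hOq : Coh.IsQCoh O := M1.isQCoh_structureModule X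
  haveI : IsLocallyNoetherian X := LocallyOfFiniteType.isLocallyNoetherian f
  have hcoh : Coh.IsCoh O := M1.isCoh_structureModule X
  have hfl : FlatMod.IsFlatOver f O := DPerf.isFlatOver_of_isFlat f (KFlat.Sch.isFlat_of_isFinLocFree hlf)
  obtain ⟨P, hfin, hfree, -, hneg, hP⟩ := exists_computes A O hcoh hfl
  haveI := hfin
  haveI := hfree
  haveI hflat : ∀ i, Module.Flat A (P.X i) := fun i => Module.Flat.of_free
  refine ⟨(hP.preservesMono_iff 0).2 ?_, (hP.preservesEpi_iff 0).2 ?_⟩
  · refine (FlatCxLib.preservesEpi_iff_preservesMono P (p := 1) (q := -((0 : ℕ) : ℤ)) (by simp)).1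
      ⟨fun {M N} g _ => (ModuleCat.epi_iff_surjective _).2 fun y => ⟨0, (hneg 1 one_pos N).elim _ _⟩⟩
  · refine (FlatCxLib.preservesEpi_iff_surjective P _).2 ?_
    haveI : X.IsSeparated := ⟨by rw [← terminal.comp_from f]; infer_instance⟩
    haveI : CompactSpace X := QuasiCompact.compactSpace_of_compactSpace f
    letI : (f.fiber y).Over (Spec (CommRingCat.of (kap (A := A) y))) :=
      ⟨f.fiberToSpecResidueField y ≫ Spec.map (Scheme.Spec.residueFieldIso (CommRingCat.of A) y).inv⟩
    letI : (f.fiber y).Over (Spec (CommRingCat.of A)) :=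
      ⟨(f.fiber y ↘ Spec (CommRingCat.of (kap (A := A) y))) ≫
        Spec.map (CommRingCat.ofHom (algebraMap A (kap (A := A) y)))⟩
    let ι₀ := f.fiberι y
    have hsq : Sq (A := A) (B := kap (A := A) y) ι₀ := ⟨fiber_isPullback (X := X) y, rfl⟩
    haveI := affine_of_sq hsq
    obtain ⟨ι, _, U, hcov, hU₀⟩ := exists_finite_affine_cover X
    have hU := isAffineOpen_tupOpen (U := U) hU₀
    obtain ⟨ν, hν⟩ := Computes.exists_kEquiv hP hOq hcov hU
    obtain ⟨Φ, Φ', -, hΦ⟩ := exists_pullModel hcov hU hsq hOq (Iso.refl ((Scheme.Modules.pullback ι₀).obj O))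
    let μ : ∀ M : ModuleCat.{u} A, CohIII.T P (-((0 : ℕ) : ℤ)) M ≃ₗ[A] CohIII.T (K A U O) ((0 : ℕ) : ℤ) M :=
      fun M => (ν 0 M).trans ((downIso (K A U O) (0 : ℕ)).app M).toLinearEquiv
    have hμ : ∀ {M M' : ModuleCat.{u} A} (l : M ⟶ M') x,
        μ M' ((CohIII.TFun P (-((0 : ℕ) : ℤ))).map l x) =
          (CohIII.TFun (K A U O) ((0 : ℕ) : ℤ)).map l (μ M x) := fun {M M'} l x =>
      (congrArg ((downIso (K A U O) (0 : ℕ)).app M').toLinearEquiv (hν 0 l x)).trans
        (ConcreteCategory.congr_hom ((downIso (K A U O) (0 : ℕ)).hom.naturality l) (ν 0 M x))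
    have hsurj : Function.Surjective ((CohIII.TFun P (-((0 : ℕ) : ℤ))).map
        (ModuleCat.ofHom (Algebra.linearMap A (kap (A := A) y)))).hom := by
      intro x
      let z := Φ' 0 (μ _ x)
      let N := (Scheme.Modules.pullback ι₀).obj O
      obtain ⟨V, hs, t, ht⟩ := exists_res'_eq f y het rfl
        (show Γ(N, ⊤) from Sheaf.H.equiv₀ (Coh.toAb N) (isTerminalTop : IsTerminal (⊤ : (f.fiber y).Opens)) z)
      have hV : V = ⊤ := eq_top_iff.2 fun w _ => by
        have hwy : w ⤳ y := (PrimeSpectrum.le_iff_specializes w y).1 (show w.asIdeal ≤ y.asIdeal by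
          rw [hy]; exact IsLocalRing.le_maximalIdeal w.isPrime.ne_top)
        exact hwy.mem_open V.2 hs
      subst hV
      let x₀ : Coh.HH X O 0 :=
        (Sheaf.H.equiv₀ (Coh.toAb O) (isTerminalTop : IsTerminal (⊤ : X.Opens))).symm t
      have hz : pullF ι₀.base (abMap ι₀ (unitTo (Iso.refl N))) 0 x₀ = z := by
        apply (Sheaf.H.equiv₀ (Coh.toAb N) (isTerminalTop : IsTerminal (⊤ : (f.fiber y).Opens))).injective
        refine (pullF_equiv₀ _ _ x₀).trans ?_
        refine (congrArg ((abMap ι₀ (unitTo (Iso.refl N))).hom.app (op ⊤))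
          (AddEquiv.apply_symm_apply _ _)).trans ?_
        exact (unitTo_app (Iso.refl N) ⊤ t).trans ht
      obtain ⟨w, hw⟩ := ((μ (ModuleCat.of A A)).trans (Φ 0)).surjective x₀
      refine ⟨w, (μ _).injective ((Φ' 0).injective ?_)⟩
      refine (congrArg (Φ' 0) (hμ _ w)).trans ?_
      refine (hΦ 0 _).symm.trans ?_
      rw [show Φ 0 (μ _ w) = x₀ from hw]
      exact hz
    have hle : RingHom.ker (algebraMap A (kap (A := A) y)) = IsLocalRing.maximalIdeal A := by
      rw [Ideal.ker_algebraMap_residueField, hy]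
    haveI : (PrimeSpectrum.asIdeal (R := A) y).IsMaximal := hy ▸ IsLocalRing.maximalIdeal.isMaximal A
    have hsk : Function.Surjective (algebraMap A (kap (A := A) y)) :=
      Ideal.algebraMap_residueField_surjective _
    let e' : kap (A := A) y ≃ₐ[A] A ⧸ IsLocalRing.maximalIdeal A :=
      (Ideal.quotientKerAlgEquivOfSurjective (f := Algebra.ofId A (kap (A := A) y)) hsk).symm.trans
        (Ideal.quotientEquivAlgOfEq A hle)
    let e : kap (A := A) y →ₗ[A] IsLocalRing.ResidueField A := e'.toLinearMap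
    have he : Function.Bijective e := e'.bijective
    have hel : e.comp (Algebra.linearMap A (kap (A := A) y)) = Algebra.linearMap A (IsLocalRing.ResidueField A) :=
      LinearMap.ext fun a => e'.commutes a
    intro x
    haveI : IsIso (ModuleCat.ofHom e) := (ConcreteCategory.isIso_iff_bijective _).2 he
    obtain ⟨x', hx'⟩ := (ConcreteCategory.bijective_of_isIso
      ((CohIII.TFun P (-((0 : ℕ) : ℤ))).map (ModuleCat.ofHom e))).2 x
    obtain ⟨w, hw⟩ := hsurj x'
    refine ⟨w, ?_⟩
    rw [← hx', ← hw]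
    show ((CohIII.TFun P (-((0 : ℕ) : ℤ))).map (ModuleCat.ofHom (Algebra.linearMap A (IsLocalRing.ResidueField A)))) w = _
    rw [← hel, ModuleCat.ofHom_comp, Functor.map_comp]
    rfl

end Groth.Agent.SteinSurj5
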